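import Groth.Agent.S5355
import Groth.Agent.Lib.AntiAffine.ClosedSubgrp
import Groth.Agent.Lib.AffMono14.Basic
import Groth.Agent.Lib.FlatFactor.Orbit
import Groth.Agent.Lib.GrpSchField.Criteria
import Groth.Agent.Lib.Rigidity.SmoothGroup
import Groth.Agent.Lib.Neutral.Artin
import Groth.Agent.Lib.Neutral.Constructible
import Mathlib

/-!
Smoothness and connectedness of a group mapping onto a smooth (connected) group, when the kernel
factors through a smooth (connected) scheme; inverse images of subgroups.
-/

set_option autoImplicit false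
set_option backward.isDefEq.respectTransparency false

universe u v

open CategoryTheory CategoryTheory.Limits MonoidalCategory CartesianMonoidalCategory MonObj GrpObj AlgebraicGeometry

noncomputable section

namespace GrothLib.SubPre14

section Gen

variable {C : Type u} [Category.{v} C] [CartesianMonoidalCategory C]

/-- The inverse image of a subgroup object is a subgroup object. -/
theorem exists_grpObj_pullback {G G' H' P : C} [GrpObj G] [GrpObj G'] [GrpObj H'] (u : G ⟶ G') [IsMonHom u]
    (h' : H' ⟶ G') [IsMonHom h'] [Mono h'] (a : P ⟶ H') (b : P ⟶ G) (sq : IsPullback a b h' u) :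
    ∃ _ : GrpObj P, IsMonHom a ∧ IsMonHom b := by
  haveI : Mono b := sq.mono_snd_of_mono
  have hone : (1 : 𝟙_ C ⟶ H') ≫ h' = (1 : 𝟙_ C ⟶ G) ≫ u := by rw [MonObj.one_comp, MonObj.one_comp]
  have hmul : ((fst P P ≫ a) * (snd P P ≫ a)) ≫ h' = ((fst P P ≫ b) * (snd P P ≫ b)) ≫ u := by
    rw [MonObj.mul_comp, MonObj.mul_comp, Category.assoc, Category.assoc, Category.assoc, Category.assoc, sq.w]
  have hinv : a⁻¹ ≫ h' = b⁻¹ ≫ u := by rw [GrpObj.inv_comp, GrpObj.inv_comp, sq.w]
  obtain ⟨grp, hb⟩ := GrothLib.AntiAffine.exists_grpObj_of_factor b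
    ⟨sq.lift 1 1 hone, by rw [sq.lift_snd, Hom.one_def, toUnit_unit, Category.id_comp]⟩
    ⟨sq.lift _ _ hmul, sq.lift_snd _ _ hmul⟩ ⟨sq.lift _ _ hinv, sq.lift_snd _ _ hinv⟩
  letI := grp
  haveI := hb
  refine ⟨grp, ⟨?_, ?_⟩, hb⟩
  · rw [← cancel_mono h', Category.assoc, sq.w, ← Category.assoc, IsMonHom.one_hom b,
      IsMonHom.one_hom u, IsMonHom.one_hom h']
  · rw [← cancel_mono h', Category.assoc, sq.w, ← Category.assoc, IsMonHom.mul_hom b, Category.assoc,
      IsMonHom.mul_hom u, Category.assoc, IsMonHom.mul_hom h', ← Category.assoc, ← Category.assoc,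
      tensorHom_comp_tensorHom, tensorHom_comp_tensorHom, sq.w]

end Gen

variable {S : Scheme.{u}}

/-- The kernel of `a : P ⟶ H` factors through `c : C ⟶ P`, stated on the kernel pair. -/
def KerPairFactors {P H C : Over S} [GrpObj P] (a : P ⟶ H) (c : C ⟶ P) : Prop :=
  ∃ (W : Over S) (w₁ w₂ : W ⟶ P) (l : W ⟶ C), IsPullback w₁ w₂ a a ∧ l ≫ c = w₁⁻¹ * w₂

theorem KerPairFactors.map {T : Scheme.{u}} (g : T ⟶ S) {P H C : Over S} [GrpObj P] {a : P ⟶ H} {c : C ⟶ P}
    (h : KerPairFactors a c) : KerPairFactors ((Over.pullback g).map a) ((Over.pullback g).map c) := by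
  obtain ⟨W, w₁, w₂, l, sq, hl⟩ := h
  haveI : PreservesLimit (cospan a a) (Over.pullback g) :=
    ((Over.mapPullbackAdj g).rightAdjoint_preservesLimits.preservesLimitsOfShape).preservesLimit
  refine ⟨_, _, _, (Over.pullback g).map l, sq.map (Over.pullback g), ?_⟩
  rw [← Functor.map_comp, hl, Functor.map_mul, Functor.map_inv']

theorem left_isPullback {A B C D : Over S} {a : A ⟶ B} {b : A ⟶ C} {c : B ⟶ D} {d : C ⟶ D}
    (sq : IsPullback a b c d) : IsPullback a.left b.left c.left d.left :=
  sq.map (Over.forget S)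

section Field

variable {k : Type u} [Field k]

local notation "B" => Spec (CommRingCat.of k)

theorem smooth_algClosed [IsAlgClosed k] {P H C : Over B} [GrpObj P] [GrpObj H] (a : P ⟶ H) [IsMonHom a]
    [LocallyOfFiniteType P.hom] [QuasiCompact a.left] [Surjective a.left] [Smooth H.hom]
    (c : C ⟶ P) [Smooth C.hom] (hk : KerPairFactors a c) : Smooth P.hom := by
  haveI : IsReduced H.left := GrothLib.Rigidity.isReduced_of_smooth H.hom
  haveI : IsReduced C.left := GrothLib.Rigidity.isReduced_of_smooth C.hom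
  haveI : IsLocallyNoetherian H.left := LocallyOfFiniteType.isLocallyNoetherian H.hom
  obtain ⟨R, grpR, j, hj, hjc, hR, hjs⟩ := GrothLib.AffMono14.exists_red P
  haveI : Mono j := (Over.forget B).mono_of_mono_map (inferInstanceAs (Mono j.left))
  haveI : QuasiCompact (j ≫ a).left := by rw [Over.comp_left]; infer_instance
  haveI : Surjective (j ≫ a).left := by rw [Over.comp_left]; infer_instance
  haveI : Flat (j ≫ a).left :=
    (Groth.Agent.S5355.result k R H (j ≫ a) (j ≫ a).left.surjective.denseRange).2 inferInstance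
  haveI : LocallyOfFiniteType R.hom := by rw [← Over.w j]; infer_instance
  haveI : LocallyOfFiniteType (j ≫ a).left := by
    have : LocallyOfFiniteType ((j ≫ a).left ≫ H.hom) := by rw [Over.w]; infer_instance
    exact locallyOfFiniteType_of_comp _ H.hom
  haveI : LocallyOfFinitePresentation (j ≫ a).left := inferInstance
  obtain ⟨W, w₁, w₂, l, sq, hl⟩ := hk
  let Q := pullback (j ≫ a) a
  let q₂ : Q ⟶ R := pullback.fst _ _
  let q₁ : Q ⟶ P := pullback.snd _ _
  have sq' := left_isPullback (IsPullback.of_hasPullback (j ≫ a) a)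
  haveI : Surjective q₁.left := MorphismProperty.of_isPullback sq' inferInstance
  haveI : Flat q₁.left := MorphismProperty.of_isPullback sq' inferInstance
  haveI : LocallyOfFinitePresentation q₁.left := MorphismProperty.of_isPullback sq' inferInstance
  have hQ : (q₂ ≫ j) ≫ a = q₁ ≫ a := by rw [Category.assoc]; exact pullback.condition
  obtain ⟨m₀, hm⟩ := GrothLib.RedSub.exists_lift c.left j.left
    (by rw [j.left.surjective.range_eq]; exact Set.subset_univ _)
  let m : C ⟶ R := Over.homMk m₀ (by rw [← Over.w j, reassoc_of% hm]; exact Over.w c)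
  have hm' : m ≫ j = c := Over.OverMorphism.ext hm
  have hd : sq.lift (q₂ ≫ j) q₁ hQ ≫ (w₁⁻¹ * w₂) = (q₂ ≫ j)⁻¹ * q₁ := by
    rw [MonObj.comp_mul, GrpObj.comp_inv, sq.lift_fst, sq.lift_snd]
  have w : (q₂ * ((sq.lift (q₂ ≫ j) q₁ hQ ≫ l) ≫ m)) ≫ j = q₁ ≫ 𝟙 P := by
    rw [MonObj.mul_comp, Category.assoc, hm', Category.assoc, hl, hd, mul_inv_cancel_left, Category.comp_id]
  obtain ⟨r, hr⟩ := GrothLib.FlatFactor.exists_lift_of_cover q₁ j (𝟙 P) _ w
  haveI : IsSplitEpi j := IsSplitEpi.mk' ⟨r, hr⟩
  haveI : IsIso j := isIso_of_mono_of_isSplitEpi j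
  haveI : IsIso (inv j).left := inferInstanceAs (IsIso ((Over.forget B).map (inv j)))
  haveI : IsReduced P.left := isReduced_of_isOpenImmersion (inv j).left
  exact GrothLib.GrpSchField.smooth_of_perfectField_of_isReduced P

theorem smooth_field {P H C : Over B} [GrpObj P] [GrpObj H] (a : P ⟶ H) [IsMonHom a]
    [LocallyOfFiniteType P.hom] [QuasiCompact a.left] [Surjective a.left] [Smooth H.hom]
    (c : C ⟶ P) [Smooth C.hom] (hk : KerPairFactors a c) : Smooth P.hom := by
  let g : Spec (CommRingCat.of (AlgebraicClosure k)) ⟶ B :=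
    Spec.map (CommRingCat.ofHom <| algebraMap k (AlgebraicClosure k))
  apply MorphismProperty.of_pullback_snd_of_descendsAlong
    (Q := @Surjective ⊓ @Flat ⊓ @QuasiCompact) (g := g)
  · exact ⟨⟨inferInstance, inferInstance⟩, inferInstance⟩
  · haveI : LocallyOfFiniteType ((Over.pullback g).obj P).hom :=
      MorphismProperty.pullback_snd P.hom g inferInstance
    haveI : Smooth ((Over.pullback g).obj H).hom := MorphismProperty.pullback_snd H.hom g inferInstance
    haveI : Smooth ((Over.pullback g).obj C).hom := MorphismProperty.pullback_snd C.hom g inferInstance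
    haveI : QuasiCompact ((Over.pullback g).map a).left := MorphismProperty.overPullbackMap g a inferInstance
    haveI : Surjective ((Over.pullback g).map a).left := MorphismProperty.overPullbackMap g a inferInstance
    letI : GrpObj ((Over.pullback g).obj P) := Functor.grpObjObj
    letI : GrpObj ((Over.pullback g).obj H) := Functor.grpObjObj
    exact smooth_algClosed ((Over.pullback g).map a) ((Over.pullback g).map c) (hk.map g)

theorem connected_field {P H C : Over B} [GrpObj P] [GrpObj H] (a : P ⟶ H) [IsMonHom a]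
    [LocallyOfFiniteType P.hom] (ha : IsOpenMap a.left) [Surjective a.left] [ConnectedSpace H.left]
    (c : C ⟶ P) [ConnectedSpace C.left] (hk : KerPairFactors a c) : ConnectedSpace P.left := by
  obtain ⟨W, w₁, w₂, l, sq, hl⟩ := hk
  let pt : ↥(𝟙_ (Over B)).left := IsLocalRing.closedPoint k
  let e : P.left := η[P].left pt
  let P₀ := SGA3x.neutralSet P
  have hP₀ : connectedComponent e = P₀ := GrothLib.Neutral.connectedComponent_unit_eq k P pt
  have hclopen : IsClopen P₀ := hP₀ ▸
    ⟨isClosed_connectedComponent, GrothLib.Neutral.isOpen_connectedComponent k P e⟩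
  have hc : Set.range c.left ⊆ P₀ := by
    rw [← hP₀]
    refine (isConnected_range c.left.continuous).subset_connectedComponent ?_
    have h1 : (sq.lift η[P] η[P] rfl ≫ l) ≫ c = η[P] := by
      rw [Category.assoc, hl, MonObj.comp_mul, GrpObj.comp_inv, sq.lift_fst, sq.lift_snd, inv_mul_cancel,
        Hom.one_def, toUnit_unit, Category.id_comp]
    exact ⟨(sq.lift η[P] η[P] rfl ≫ l).left pt, by
      rw [← Scheme.Hom.comp_apply, ← Over.comp_left, h1]⟩
  have hdis : Disjoint (a.left '' P₀) (a.left '' P₀ᶜ) := by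
    rw [Set.disjoint_left]
    rintro _ ⟨p, hp, rfl⟩ ⟨p', hp', hpp⟩
    obtain ⟨z, hz₁, hz₂⟩ := Scheme.exists_preimage_of_isPullback (left_isPullback sq) p p' hpp.symm
    let q : ↥(P ⊗ P).left := (lift w₁ (w₁⁻¹ * w₂)).left z
    have h₁ : (fst P P).left q = p := by
      rw [← Scheme.Hom.comp_apply, ← Over.comp_left, lift_fst, hz₁]
    have h₂ : (snd P P).left q ∈ P₀ := by
      rw [← Scheme.Hom.comp_apply, ← Over.comp_left, lift_snd, ← hl, Over.comp_left, Scheme.Hom.comp_apply]
      exact hc ⟨_, rfl⟩
    have hμ : μ[P].left q = p' := by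
      rw [← Scheme.Hom.comp_apply, ← Over.comp_left, ← Hom.mul_def, mul_inv_cancel_left, hz₂]
    refine hp' (hμ ▸ GrothLib.Neutral.mul_mem_neutralSet P q ?_ (h₁.symm ▸ hp) h₂)
    exact MorphismProperty.pullback_snd P.hom _ inferInstance
  have hcov : a.left '' P₀ ∪ a.left '' P₀ᶜ = Set.univ := by
    rw [← Set.image_union, Set.union_compl_self, Set.image_univ, a.left.surjective.range_eq]
  have hne : P₀.Nonempty := hP₀ ▸ ⟨e, mem_connectedComponent⟩
  have hall : P₀ = Set.univ := by
    by_contra hu
    have hne' : (P₀ᶜ).Nonempty := Set.nonempty_compl.2 hu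
    have := isPreconnected_univ (α := H.left) _ _ (ha _ hclopen.isOpen) (ha _ hclopen.compl.isOpen) hcov.ge
      (by rw [Set.univ_inter]; exact hne.image _) (by rw [Set.univ_inter]; exact hne'.image _)
    rw [hdis.inter_eq, Set.inter_empty] at this
    exact Set.not_nonempty_empty this
  exact connectedSpace_iff_connectedComponent.2 ⟨e, hP₀.trans hall⟩

end Field

theorem smooth_of_kerPair {P H C : Over S} [GrpObj P] [GrpObj H] (a : P ⟶ H) [IsMonHom a]
    [LocallyOfFinitePresentation P.hom] [Flat P.hom] [QuasiCompact a.left] [Surjective a.left] [Smooth H.hom]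
    (c : C ⟶ P) [Smooth C.hom] (hk : KerPairFactors a c) : Smooth P.hom := by
  refine Smooth.of_smooth_fiberToSpecResidueField _ fun s => ?_
  let g := S.fromSpecResidueField s
  haveI : LocallyOfFiniteType ((Over.pullback g).obj P).hom :=
    MorphismProperty.pullback_snd P.hom g inferInstance
  haveI : Smooth ((Over.pullback g).obj H).hom := MorphismProperty.pullback_snd H.hom g inferInstance
  haveI : Smooth ((Over.pullback g).obj C).hom := MorphismProperty.pullback_snd C.hom g inferInstance
  haveI : QuasiCompact ((Over.pullback g).map a).left := MorphismProperty.overPullbackMap g a inferInstance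
  haveI : Surjective ((Over.pullback g).map a).left := MorphismProperty.overPullbackMap g a inferInstance
  letI : GrpObj ((Over.pullback g).obj P) := Functor.grpObjObj
  letI : GrpObj ((Over.pullback g).obj H) := Functor.grpObjObj
  exact smooth_field (k := S.residueField s) ((Over.pullback g).map a) ((Over.pullback g).map c) (hk.map g)

theorem connected_of_kerPair {P H C : Over S} [GrpObj P] [GrpObj H] (a : P ⟶ H) [IsMonHom a]
    [LocallyOfFiniteType P.hom] [Flat a.left] [LocallyOfFinitePresentation a.left] [Surjective a.left]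
    (c : C ⟶ P) (hk : KerPairFactors a c) (s : S)
    (hC : _root_.IsConnected (C.hom.base ⁻¹' {s})) (hH : _root_.IsConnected (H.hom.base ⁻¹' {s})) :
    _root_.IsConnected (P.hom.base ⁻¹' {s}) := by
  let g := S.fromSpecResidueField s
  haveI : LocallyOfFiniteType ((Over.pullback g).obj P).hom :=
    MorphismProperty.pullback_snd P.hom g inferInstance
  haveI : ConnectedSpace ((Over.pullback g).obj H).left := by
    have : ConnectedSpace ↥(H.hom.base ⁻¹' {s}) := isConnected_iff_connectedSpace.1 hH
    exact (H.hom.fiberHomeo s).symm.surjective.connectedSpace (H.hom.fiberHomeo s).symm.continuous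
  haveI : ConnectedSpace ((Over.pullback g).obj C).left := by
    have : ConnectedSpace ↥(C.hom.base ⁻¹' {s}) := isConnected_iff_connectedSpace.1 hC
    exact (C.hom.fiberHomeo s).symm.surjective.connectedSpace (C.hom.fiberHomeo s).symm.continuous
  haveI : Flat ((Over.pullback g).map a).left := MorphismProperty.overPullbackMap g a inferInstance
  haveI : LocallyOfFinitePresentation ((Over.pullback g).map a).left :=
    MorphismProperty.overPullbackMap g a inferInstance
  haveI : Surjective ((Over.pullback g).map a).left := MorphismProperty.overPullbackMap g a inferInstance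
  letI : GrpObj ((Over.pullback g).obj P) := Functor.grpObjObj
  letI : GrpObj ((Over.pullback g).obj H) := Functor.grpObjObj
  have := connected_field (k := S.residueField s) ((Over.pullback g).map a)
    ((Over.pullback g).map a).left.isOpenMap ((Over.pullback g).map c) (hk.map g)
  rw [isConnected_iff_connectedSpace]
  haveI : ConnectedSpace ↥(P.hom.fiber s) := this
  exact (P.hom.fiberHomeo s).surjective.connectedSpace (P.hom.fiberHomeo s).continuous

/-- Inverse images in `G` of subgroups `C' ≤ H'` of `G'`: the kernel pair condition. -/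
theorem kerPairFactors_pullback {G G' H' C' P C : Over S} [GrpObj G] [GrpObj G'] [GrpObj H'] [GrpObj C']
    [GrpObj P] {u : G ⟶ G'} [IsMonHom u] {h' : H' ⟶ G'} {c' : C' ⟶ G'} [IsMonHom h'] [IsMonHom c'] [Mono h']
    {a : P ⟶ H'} {b : P ⟶ G} [IsMonHom a] [IsMonHom b] (sq : IsPullback a b h' u)
    {aC : C ⟶ C'} {bC : C ⟶ G} (sqC : IsPullback aC bC c' u) (c : C ⟶ P) (hc : c ≫ b = bC) :
    KerPairFactors a c := by
  haveI : Mono b := sq.mono_snd_of_mono
  let W := pullback a a
  have hd : ((pullback.fst a a)⁻¹ * pullback.snd a a) ≫ a = 1 := by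
    rw [MonObj.mul_comp, GrpObj.inv_comp, pullback.condition, inv_mul_cancel]
  have h1 : (1 : W ⟶ C') ≫ c' = (((pullback.fst a a)⁻¹ * pullback.snd a a) ≫ b) ≫ u := by
    rw [MonObj.one_comp, Category.assoc, ← sq.w, reassoc_of% hd, MonObj.one_comp]
  refine ⟨W, _, _, sqC.lift 1 _ h1, IsPullback.of_hasPullback a a, ?_⟩
  rw [← cancel_mono b, Category.assoc, hc, sqC.lift_snd]

end GrothLib.SubPre14
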